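import Groth.Agent.ResProp.EF.K945.ModRoof
import Groth.Agent.ResProp.EF.K496.CobMod
import Groth.Prelude.Def_ComodTens

/-!
# The strength of the comonad `- ⊗[R] O`: tensoring a comodule with a module

`(m ⊗ o) ⊗ n ↦ (m ⊗ n) ⊗ o`.
-/

set_option autoImplicit false
set_option backward.defeqAttrib.useBackward true
set_option backward.isDefEq.respectTransparency false

universe u

noncomputable section

namespace Groth.Agent.ResProp.EF.K945

open CategoryTheory CategoryTheory.Limits MonoidalCategory HomologicalComplex
open Groth.Agent.ResProp.EF.K496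

section Lin

open TensorProduct

variable (R : Type u) [CommRing R] (O : Type u) [CommRing O] [Bialgebra R O]

/-- `(m ⊗ o) ⊗ n ↦ (m ⊗ n) ⊗ o` -/
def tw (M N : Type u) [AddCommGroup M] [Module R M] [AddCommGroup N] [Module R N] :
    (M ⊗[R] O) ⊗[R] N →ₗ[R] (M ⊗[R] N) ⊗[R] O :=
  (TensorProduct.rightComm R M O N).toLinearMap

variable {R O} in
@[simp] lemma tw_tmul {M N : Type u} [AddCommGroup M] [Module R M] [AddCommGroup N] [Module R N] (m : M) (o : O)
    (n : N) : tw R O M N ((m ⊗ₜ o) ⊗ₜ n) = (m ⊗ₜ n) ⊗ₜ o := rfl

lemma tw_counit (M N : Type u) [AddCommGroup M] [Module R M] [AddCommGroup N] [Module R N] :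
    epsL R O (M ⊗[R] N) ∘ₗ tw R O M N = (epsL R O M).rTensor N := by
  refine TensorProduct.ext_threefold fun m o n => ?_
  rw [LinearMap.comp_apply, tw_tmul, epsL_tmul, LinearMap.rTensor_tmul, epsL_tmul, TensorProduct.smul_tmul']

lemma tw_comul (M N : Type u) [AddCommGroup M] [Module R M] [AddCommGroup N] [Module R N] :
    Hoch.Ind.coactAux R O (M ⊗[R] N) ∘ₗ tw R O M N =
      (tw R O M N).rTensor O ∘ₗ tw R O (M ⊗[R] O) N ∘ₗ (Hoch.Ind.coactAux R O M).rTensor N := by
  refine TensorProduct.ext_threefold fun m o n => ?_
  rw [LinearMap.comp_apply, LinearMap.comp_apply, LinearMap.comp_apply, tw_tmul, LinearMap.rTensor_tmul,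
    Hoch.Ind.coactAux_tmul, Hoch.Ind.coactAux_tmul]
  generalize Coalgebra.comul (R := R) o = w
  induction w using TensorProduct.induction_on with
  | zero => simp
  | add x y hx hy => simp only [TensorProduct.tmul_add, TensorProduct.add_tmul, map_add, hx, hy]
  | tmul x y => simp

end Lin

section Str

variable (R : Type u) [CommRing R] (O : Type u) [CommRing O] [Bialgebra R O]

/-- The strength of `GO R O`. -/
def sGO : Strength (GO R O) (tb R) where
  τ M N := ModuleCat.ofHom (tw R O M N)
  nat₁ {X Y} f N := by
    ext : 1
    exact TensorProduct.ext_threefold fun m o n => rfl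
  nat₂ X {N N'} g := by
    ext : 1
    exact TensorProduct.ext_threefold fun m o n => rfl
  counit M N := by
    ext : 1
    exact tw_counit R O M N
  comul M N := by
    ext : 1
    exact tw_comul R O M N

variable {R O}

/-- The coaction of `M ⊗ N`. -/
lemma coactOf_coalg (M : (GO R O).Coalgebra) (N : ModuleCat.{u} R) :
    coactOf ((sGO R O).coalg M N) = tw R O M.A N ∘ₗ (coactOf M).rTensor N := rfl

open TensorProduct in
lemma tw_coact (M : (GO R O).Coalgebra) (N : Type u) [AddCommGroup N] [Module R N] (x : M.A ⊗[R] N) :
    tw R O M.A N ((coactOf M).rTensor N x) =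
      (ComodTens.Comod.tensor (toComod M) (HopfRep.Comod.trivial (k := R) (A := O) N)).coact x := by
  induction x using TensorProduct.induction_on with
  | zero => simp
  | add x y hx hy => rw [map_add, map_add, map_add, hx, hy]
  | tmul m n =>
    rw [ComodTens.tensor_coact_tmul, LinearMap.rTensor_tmul]
    change tw R O M.A N (coactOf M m ⊗ₜ n) = TensorProduct.map LinearMap.id (LinearMap.mul' R O)
      (AlgebraTensorModule.tensorTensorTensorComm R R R R M.A O N O (coactOf M m ⊗ₜ[R] (n ⊗ₜ (1 : O))))
    generalize coactOf M m = w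
    induction w using TensorProduct.induction_on with
    | zero => simp
    | add x y hx hy => simp only [TensorProduct.add_tmul, map_add, hx, hy]
    | tmul x y => simp

/-- `M ⊗ N` is the tensor product of the comodule `M` with the trivial comodule `N`. -/
theorem toComod_coalg (M : (GO R O).Coalgebra) (N : ModuleCat.{u} R) :
    toComod ((sGO R O).coalg M N) =
      ComodTens.Comod.tensor (toComod M) (HopfRep.Comod.trivial (k := R) (A := O) N) := by
  have h : (toComod ((sGO R O).coalg M N)).coact =
      (ComodTens.Comod.tensor (toComod M) (HopfRep.Comod.trivial (k := R) (A := O) N)).coact := by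
    apply LinearMap.ext
    intro x
    exact tw_coact M N x
  generalize toComod ((sGO R O).coalg M N) = c at h
  generalize ComodTens.Comod.tensor (toComod M) (HopfRep.Comod.trivial (k := R) (A := O) N) = d at h
  cases c
  cases d
  congr

end Str

end Groth.Agent.ResProp.EF.K945
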