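import Groth.Agent.Dcoh.KFlatBdd
import Mathlib.Algebra.Homology.BifunctorFlip

/-!
# A bifunctor, a roof and a resolution

`T : C₁ ⥤ C₂ ⥤ D` an additive bifunctor of abelian categories, `Kf ⟵ K' ⟶ Kc` quasi-isomorphisms of complexes in `C₁`,
`Kf` bounded above with `T`-flat terms, `ε : L ⟶ N[0]` a quasi-isomorphism of complexes in `C₂` with `L` bounded above
with `T`-flat terms. Then `H^j(T(Kf, N)) ≅ H^j(T(Kc, L))` for all `j`.
-/

set_option autoImplicit false
set_option backward.defeqAttrib.useBackward true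
set_option backward.isDefEq.respectTransparency false

universe w' w v v₁ v₂ v₃ u u₁ u₂ u₃

namespace Groth.Agent.ResProp.EF.K945

open CategoryTheory Category Limits HomologicalComplex CochainComplex
open Groth.Agent.Dcoh.CxFun Groth.Agent.Dcoh.KFlatAbs Groth.Agent.Dcoh.KFlatSingle

section HasMap

variable {C₁ : Type u₁} {C₂ : Type u₂} {D : Type u₃} [Category.{v₁} C₁] [Category.{v₂} C₂] [Category.{v₃} D]
  [Preadditive C₁] [Preadditive C₂] [Preadditive D]

/-- Total complexes exist if the target has countable coproducts. -/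
theorem hasMapBifunctor [HasCoproducts.{0} D] (T : C₁ ⥤ C₂ ⥤ D) [T.PreservesZeroMorphisms]
    [∀ X₁, (T.obj X₁).PreservesZeroMorphisms]
    (K₁ : CochainComplex C₁ ℤ) (K₂ : CochainComplex C₂ ℤ) : CochainComplex.HasMapBifunctor K₁ K₂ T := by
  intro n
  infer_instance

end HasMap

variable {C₁ : Type u₁} {C₂ : Type u₂} {D : Type u₃} [Category.{v₁} C₁] [Category.{v₂} C₂] [Category.{v₃} D]
  [Abelian C₁] [Abelian C₂] [Abelian D]
  (T : C₁ ⥤ C₂ ⥤ D) [T.Additive] [∀ X₁, (T.obj X₁).Additive]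
  [∀ (K₁ : CochainComplex C₁ ℤ) (K₂ : CochainComplex C₂ ℤ), CochainComplex.HasMapBifunctor K₁ K₂ T]

instance flip_additive : T.flip.Additive where
  map_add {M N f g} := by
    ext L
    exact (T.obj L).map_add

instance flip_obj_additive' (X : C₂) : (T.flip.obj X).Additive where
  map_add {M N f g} := by simp

/-- `T.flip(L, E) ≅ T(E, L)` -/
noncomputable def flipIso (E : CochainComplex C₁ ℤ) (L : CochainComplex C₂ ℤ) :
    (T.flip.map₂CochainComplex.obj L).obj E ≅ (T.map₂CochainComplex.obj E).obj L :=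
  mapBifunctorFlipIso E L T (ComplexShape.up ℤ)

variable {T}

lemma acyclic_of_kfl_flip {E : CochainComplex C₁ ℤ} (h : KFl T.flip E) (L : CochainComplex C₂ ℤ) (hL : L.Acyclic) :
    ((T.map₂CochainComplex.obj E).obj L).Acyclic :=
  acyclic_of_iso (flipIso T E L) (h L hL)

lemma quasiIso_of_kfl_flip {E : CochainComplex C₁ ℤ} (h : KFl T.flip E) {K L : CochainComplex C₂ ℤ} (f : K ⟶ L)
    [QuasiIso f] : QuasiIso ((T.map₂CochainComplex.obj E).map f) :=
  quasiIso_map (T.map₂CochainComplex.obj E) (acyclic_of_kfl_flip h) f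

section

variable [HasColimitsOfShape ℕ D] [HasExactColimitsOfShape ℕ D]

/-- `T(Kf, -)` preserves quasi-isomorphisms, for `Kf` bounded above with `T`-flat terms. -/
theorem quasiIso_left [HasColimitsOfShape ℕ C₁] [∀ M : C₂, PreservesColimitsOfShape ℕ (T.flip.obj M)]
    (Kf : CochainComplex C₁ ℤ) (b : ℤ) [Kf.IsStrictlyLE b] (hK : ∀ n, (T.obj (Kf.X n)).PreservesHomology)
    {K L : CochainComplex C₂ ℤ} (f : K ⟶ L) [QuasiIso f] : QuasiIso ((T.map₂CochainComplex.obj Kf).map f) :=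
  quasiIso_of_kfl_flip (Groth.Agent.Dcoh.KFlatBdd.kfl_of_isStrictlyLE (T := T.flip) Kf b (fun n => hK n)) f

/-- `T(-, L)` preserves quasi-isomorphisms, for `L` bounded above with `T`-flat terms. -/
theorem quasiIso_right [HasColimitsOfShape ℕ C₂] [∀ M : C₁, PreservesColimitsOfShape ℕ (T.obj M)]
    (L : CochainComplex C₂ ℤ) (b : ℤ) [L.IsStrictlyLE b] (hL : ∀ n, (T.flip.obj (L.X n)).PreservesHomology)
    {K K' : CochainComplex C₁ ℤ} (f : K ⟶ K') [QuasiIso f] : QuasiIso ((T.map₂CochainComplex.map f).app L) :=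
  (Groth.Agent.Dcoh.KFlatBdd.kfl_of_isStrictlyLE (T := T) L b hL).quasiIso f

variable [HasColimitsOfShape ℕ C₁] [HasColimitsOfShape ℕ C₂]
  [∀ M : C₁, PreservesColimitsOfShape ℕ (T.obj M)] [∀ M : C₂, PreservesColimitsOfShape ℕ (T.flip.obj M)]

/-- The roof theorem: `T(Kf, N)`, `T(Kf, L)`, `T(K', L)` and `T(Kc, L)` have the same cohomology. -/
theorem roof {Kf K' Kc : CochainComplex C₁ ℤ} (r : K' ⟶ Kf) (s : K' ⟶ Kc) [QuasiIso r] [QuasiIso s]
    (b b' : ℤ) [Kf.IsStrictlyLE b] (hK : ∀ n, (T.obj (Kf.X n)).PreservesHomology)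
    (N : C₂) (L : CochainComplex C₂ ℤ) [L.IsStrictlyLE b'] (hL : ∀ n, (T.flip.obj (L.X n)).PreservesHomology)
    (ε : L ⟶ (single C₂ (ComplexShape.up ℤ) 0).obj N) [QuasiIso ε] (j : ℤ) :
    Nonempty ((((T.flip.obj N).mapHomologicalComplex (ComplexShape.up ℤ)).obj Kf).homology j ≅
      ((T.map₂CochainComplex.obj Kc).obj L).homology j) := by
  have h1 : QuasiIso ((T.map₂CochainComplex.obj Kf).map ε) := quasiIso_left Kf b hK ε
  have h2 : QuasiIso ((T.map₂CochainComplex.map r).app L) := quasiIso_right L b' hL r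
  have h3 : QuasiIso ((T.map₂CochainComplex.map s).app L) := quasiIso_right L b' hL s
  exact ⟨(homologyFunctor D (ComplexShape.up ℤ) j).mapIso (singleIso T Kf N) ≪≫
    (asIso (homologyMap ((T.map₂CochainComplex.obj Kf).map ε) j)).symm ≪≫
    (asIso (homologyMap ((T.map₂CochainComplex.map r).app L) j)).symm ≪≫
    asIso (homologyMap ((T.map₂CochainComplex.map s).app L) j)⟩

end

end Groth.Agent.ResProp.EF.K945
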