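import Groth.Agent.ResProp.EF.K945.Strength
import Mathlib.Algebra.Category.ModuleCat.Monoidal.Closed
import Mathlib.RingTheory.Flat.CategoryTheory
import Mathlib.CategoryTheory.Abelian.Projective.Extend
import Mathlib.CategoryTheory.Abelian.Projective.Resolution
import Mathlib.Algebra.Category.ModuleCat.Projective

/-!
# The roof theorem for coalgebras over a comonad on modules

`G` an exact additive comonad on `ModuleCat A` with a strength relative to `⊗[A]`, `ME = G.Coalgebra`.
-/

set_option autoImplicit false
set_option backward.defeqAttrib.useBackward true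
set_option backward.isDefEq.respectTransparency false

universe u

noncomputable section

namespace Groth.Agent.ResProp.EF.K945

open CategoryTheory CategoryTheory.Limits MonoidalCategory HomologicalComplex

variable {A : Type u} [CommRing A]

/-- the tensor product as a bifunctor -/
abbrev tb (A : Type u) [CommRing A] : ModuleCat.{u} A ⥤ ModuleCat.{u} A ⥤ ModuleCat.{u} A :=
  curriedTensor (ModuleCat.{u} A)

instance tb_additive : (tb A).Additive where
  map_add {M N f g} := by
    ext L : 2
    exact MonoidalPreadditive.add_whiskerRight f g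

instance tb_obj_additive (M : ModuleCat.{u} A) : ((tb A).obj M).Additive :=
  inferInstanceAs (tensorLeft M).Additive

theorem preservesHomology_tensorLeft (M : ModuleCat.{u} A) [Module.Flat A M] :
    ((tb A).obj M).PreservesHomology := by
  apply Functor.preservesHomology_of_map_exact
  intro K hK
  exact Module.Flat.lTensor_shortComplex_exact M K hK

theorem preservesHomology_tensorRight (M : ModuleCat.{u} A) [Module.Flat A M] :
    ((tb A).flip.obj M).PreservesHomology := by
  apply Functor.preservesHomology_of_map_exact
  intro K hK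
  exact Module.Flat.rTensor_shortComplex_exact M K hK

instance (M : ModuleCat.{u} A) : PreservesColimitsOfShape ℕ ((tb A).obj M) :=
  inferInstanceAs (PreservesColimitsOfShape ℕ (tensorLeft M))

instance (M : ModuleCat.{u} A) : PreservesColimitsOfShape ℕ ((tb A).flip.obj M) :=
  inferInstanceAs (PreservesColimitsOfShape ℕ (tensorRight M))

instance exactNatMod : HasExactColimitsOfShape ℕ (ModuleCat.{u} A) :=
  have : HasFilteredColimitsOfSize.{0, 0} (ModuleCat.{u} A) := ⟨fun _ _ _ => inferInstance⟩
  have : AB5OfSize.{0, 0} (ModuleCat.{u} A) := AB5OfSize_of_univLE.{0, 0, u, u} (ModuleCat.{u} A)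
  inferInstance

variable {G : Comonad (ModuleCat.{u} A)} [Functor.Additive G.toFunctor] [PreservesFiniteLimits G.toFunctor]
  (σ : Strength G (tb A))

instance hasMap (K₁ : CochainComplex G.Coalgebra ℤ) (K₂ : CochainComplex (ModuleCat.{u} A) ℤ) :
    CochainComplex.HasMapBifunctor K₁ K₂ σ.bifunctor :=
  hasMapBifunctor σ.bifunctor K₁ K₂

instance (X : G.Coalgebra) : PreservesColimitsOfShape ℕ (σ.bifunctor.obj X) :=
  σ.preservesColimitsOfShape_obj ℕ X

instance (N : ModuleCat.{u} A) : PreservesColimitsOfShape ℕ (σ.bifunctor.flip.obj N) :=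
  σ.preservesColimitsOfShape_flip_obj ℕ N

/-- a projective resolution as a cochain complex -/
abbrev res (N : ModuleCat.{u} A) : CochainComplex (ModuleCat.{u} A) ℤ :=
  (projectiveResolution N).cochainComplex

instance flat_res (N : ModuleCat.{u} A) (n : ℤ) : Module.Flat A ((res N).X n) :=
  have h : Projective ((projectiveResolution N).cochainComplex.X n) := inferInstance
  have : Module.Projective A ((res N).X n) :=
    (IsProjective.iff_projective ((res N).X n)).2 (show Projective (ModuleCat.of A ((res N).X n)) from h)
  Module.Flat.of_projective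

/-- **The roof theorem on the chart** : `H^j(Kf ⊗[A] N) ≅ H^j(Kc ⊗[A] L)` as coalgebras, for a roof `Kf ⟵ K' ⟶ Kc` of
quasi-isomorphisms, `Kf` bounded above and flat, `L ⟶ N` the projective resolution. -/
theorem chart_roof {Kf K' Kc : CochainComplex G.Coalgebra ℤ} (r : K' ⟶ Kf) (s : K' ⟶ Kc) [QuasiIso r] [QuasiIso s]
    (b : ℤ) [Kf.IsStrictlyLE b] (hK : ∀ n, Module.Flat A (G.forget.obj (Kf.X n))) (N : ModuleCat.{u} A) (j : ℤ) :
    Nonempty ((((σ.bifunctor.flip.obj N).mapHomologicalComplex (ComplexShape.up ℤ)).obj Kf).homology j ≅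
      ((σ.bifunctor.map₂CochainComplex.obj Kc).obj (res N)).homology j) := by
  refine roof r s b 0 (fun n => ?_) N (res N) (fun n => ?_) ((projectiveResolution N).π') j
  · have h1 : Module.Flat A ((Kf.X n).A) := hK n
    have := preservesHomology_tensorLeft ((Kf.X n).A)
    exact σ.preservesHomology_obj (Kf.X n)
  · have := preservesHomology_tensorRight ((res N).X n)
    exact σ.preservesHomology_flip_obj ((res N).X n)

/-- `u(K ⊗[A] N) = u K ⊗[A] N` in the normal form `K476.Mum.tens`. -/
def forgetTens (K : CochainComplex G.Coalgebra ℤ) (N : ModuleCat.{u} A) :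
    (G.forget.mapHomologicalComplex (ComplexShape.up ℤ)).obj
      (((σ.bifunctor.flip.obj N).mapHomologicalComplex (ComplexShape.up ℤ)).obj K) ≅
    ((tensorRight N).mapHomologicalComplex (ComplexShape.up ℤ)).obj
      ((G.forget.mapHomologicalComplex (ComplexShape.up ℤ)).obj K) :=
  HomologicalComplex.Hom.isoOfComponents (fun n => Iso.refl ((K.X n).A ⊗ N)) (fun i j _ => by
    change 𝟙 _ ≫ (K.d i j).f ▷ N = (K.d i j).f ▷ N ≫ 𝟙 _
    rw [Category.id_comp, Category.comp_id])

end Groth.Agent.ResProp.EF.K945
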