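import Groth.Agent.ResProp.EF.K668.CoalgAb
import Groth.Agent.ResProp.EF.K945.Roof

/-!
# Coalgebras tensored with objects of the base

`G : Comonad C`, `S : C ⥤ M ⥤ C` a bifunctor ("tensor product with an object of `M`") and a strength
`τ : S(G X, N) ⟶ G S(X, N)` compatible with counit and comultiplication. Then `S` lifts to
`T : G.Coalgebra ⥤ M ⥤ G.Coalgebra` with `u T(X, N) = S(u X, N)`; exactness, additivity and colimits are inherited from `S`.
-/

set_option autoImplicit false
set_option backward.defeqAttrib.useBackward true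
set_option backward.isDefEq.respectTransparency false

universe w' w v₁ v₂ v₃ u₁ u₂ u₃

noncomputable section

namespace Groth.Agent.ResProp.EF.K945

open CategoryTheory CategoryTheory.Limits

variable {C : Type u₁} [Category.{v₁} C] {M : Type u₂} [Category.{v₂} M]

/-- A strength of a comonad relative to a bifunctor. -/
structure Strength (G : Comonad C) (S : C ⥤ M ⥤ C) where
  τ : ∀ (X : C) (N : M), (S.obj (G.obj X)).obj N ⟶ G.obj ((S.obj X).obj N)
  nat₁ : ∀ {X Y : C} (f : X ⟶ Y) (N : M),
    (S.map (G.map f)).app N ≫ τ Y N = τ X N ≫ G.map ((S.map f).app N)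
  nat₂ : ∀ (X : C) {N N' : M} (g : N ⟶ N'),
    (S.obj (G.obj X)).map g ≫ τ X N' = τ X N ≫ G.map ((S.obj X).map g)
  counit : ∀ (X : C) (N : M), τ X N ≫ G.ε.app ((S.obj X).obj N) = (S.map (G.ε.app X)).app N
  comul : ∀ (X : C) (N : M), τ X N ≫ G.δ.app ((S.obj X).obj N) =
    (S.map (G.δ.app X)).app N ≫ τ (G.obj X) N ≫ G.map (τ X N)

attribute [reassoc] Strength.nat₁ Strength.nat₂ Strength.counit Strength.comul

namespace Strength

variable {G : Comonad C} {S : C ⥤ M ⥤ C} (σ : Strength G S)

/-- The coalgebra `S(X, N)`. -/
@[simps A a]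
abbrev coalg (X : G.Coalgebra) (N : M) : G.Coalgebra where
  A := (S.obj X.A).obj N
  a := (S.map X.a).app N ≫ σ.τ X.A N
  counit := by
    rw [Category.assoc, σ.counit, ← NatTrans.comp_app, ← S.map_comp, X.counit]
    simp
  coassoc := by
    rw [Category.assoc, σ.comul, ← NatTrans.comp_app_assoc, ← S.map_comp, X.coassoc, S.map_comp,
      NatTrans.comp_app, Category.assoc, σ.nat₁_assoc, G.map_comp, Category.assoc]

/-- The bifunctor `T`. -/
@[simps]
def bifunctor : G.Coalgebra ⥤ M ⥤ G.Coalgebra where
  obj X :=
    { obj := fun N => σ.coalg X N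
      map := fun {N N'} g =>
        { f := (S.obj X.A).map g
          h := by
            change ((S.map X.a).app N ≫ σ.τ X.A N) ≫ G.map ((S.obj X.A).map g) =
              (S.obj X.A).map g ≫ (S.map X.a).app N' ≫ σ.τ X.A N'
            rw [Category.assoc, ← σ.nat₂, NatTrans.naturality_assoc] }
      map_id := fun N => by
        ext
        exact (S.obj X.A).map_id N
      map_comp := fun f g => by
        ext
        exact (S.obj X.A).map_comp f g }
  map {X Y} f :=
    { app := fun N =>
        { f := (S.map f.f).app N
          h := by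
            change ((S.map X.a).app N ≫ σ.τ X.A N) ≫ G.map ((S.map f.f).app N) =
              (S.map f.f).app N ≫ (S.map Y.a).app N ≫ σ.τ Y.A N
            rw [Category.assoc, ← σ.nat₁, ← NatTrans.comp_app_assoc, ← S.map_comp, f.h, S.map_comp,
              NatTrans.comp_app_assoc] }
      naturality := fun N N' g => by
        ext
        exact (S.map f.f).naturality g }
  map_id X := by
    ext N
    change (S.map (𝟙 X.A)).app N = 𝟙 ((S.obj X.A).obj N)
    rw [S.map_id]
    rfl
  map_comp {X Y Z} f g := by
    ext N
    change (S.map (f.f ≫ g.f)).app N = (S.map f.f).app N ≫ (S.map g.f).app N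
    rw [S.map_comp]
    rfl

/-- `u T(X, N) = S(u X, N)`, in `N`. -/
def objForget (X : G.Coalgebra) : σ.bifunctor.obj X ⋙ G.forget ≅ S.obj (G.forget.obj X) :=
  NatIso.ofComponents (fun N => Iso.refl ((S.obj X.A).obj N)) (fun {N N'} g => by
    change (S.obj X.A).map g ≫ 𝟙 _ = 𝟙 _ ≫ (S.obj X.A).map g
    rw [Category.id_comp, Category.comp_id])

/-- `u T(X, N) = S(u X, N)`, in `X`. -/
def flipObjForget (N : M) : σ.bifunctor.flip.obj N ⋙ G.forget ≅ G.forget ⋙ S.flip.obj N :=
  NatIso.ofComponents (fun X => Iso.refl ((S.obj X.A).obj N)) (fun {X Y} f => by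
    change (S.map f.f).app N ≫ 𝟙 _ = 𝟙 _ ≫ (S.map f.f).app N
    rw [Category.id_comp, Category.comp_id])

section Colimits

variable (J : Type w) [Category.{w'} J]

theorem preservesColimitsOfShape_obj [HasColimitsOfShape J C] (X : G.Coalgebra)
    [PreservesColimitsOfShape J (S.obj X.A)] : PreservesColimitsOfShape J (σ.bifunctor.obj X) := by
  have : PreservesColimitsOfShape J (σ.bifunctor.obj X ⋙ G.forget) :=
    have : PreservesColimitsOfShape J (S.obj (G.forget.obj X)) :=
      show PreservesColimitsOfShape J (S.obj X.A) from inferInstance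
    preservesColimitsOfShape_of_natIso (σ.objForget X).symm
  exact preservesColimitsOfShape_of_reflects_of_preserves _ G.forget

theorem preservesColimitsOfShape_flip_obj [HasColimitsOfShape J C] (N : M)
    [PreservesColimitsOfShape J (S.flip.obj N)] : PreservesColimitsOfShape J (σ.bifunctor.flip.obj N) := by
  have : PreservesColimitsOfShape J (σ.bifunctor.flip.obj N ⋙ G.forget) :=
    preservesColimitsOfShape_of_natIso (σ.flipObjForget N).symm
  exact preservesColimitsOfShape_of_reflects_of_preserves _ G.forget

end Colimits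

section Limits

variable (J : Type w) [Category.{w'} J]

theorem preservesLimitsOfShape_obj [HasLimitsOfShape J C] [PreservesLimitsOfShape J G.toFunctor] (X : G.Coalgebra)
    [PreservesLimitsOfShape J (S.obj X.A)] : PreservesLimitsOfShape J (σ.bifunctor.obj X) := by
  have : PreservesLimitsOfShape J (σ.bifunctor.obj X ⋙ G.forget) :=
    have : PreservesLimitsOfShape J (S.obj (G.forget.obj X)) :=
      show PreservesLimitsOfShape J (S.obj X.A) from inferInstance
    preservesLimitsOfShape_of_natIso (σ.objForget X).symm
  exact preservesLimitsOfShape_of_reflects_of_preserves _ G.forget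

theorem preservesLimitsOfShape_flip_obj [HasLimitsOfShape J C] [PreservesLimitsOfShape J G.toFunctor] (N : M)
    [PreservesLimitsOfShape J (S.flip.obj N)] : PreservesLimitsOfShape J (σ.bifunctor.flip.obj N) := by
  have : PreservesLimitsOfShape J (σ.bifunctor.flip.obj N ⋙ G.forget) :=
    preservesLimitsOfShape_of_natIso (σ.flipObjForget N).symm
  exact preservesLimitsOfShape_of_reflects_of_preserves _ G.forget

end Limits

section Abelian

variable [Abelian C] [Functor.Additive G.toFunctor] [PreservesFiniteLimits G.toFunctor]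

instance additive [Preadditive M] [S.Additive] : σ.bifunctor.Additive where
  map_add {X Y f g} := by
    ext N
    change (S.map (f.f + g.f)).app N = (S.map f.f).app N + (S.map g.f).app N
    rw [S.map_add]
    rfl

instance additive_obj [Preadditive M] [∀ X, (S.obj X).Additive] (X : G.Coalgebra) :
    (σ.bifunctor.obj X).Additive where
  map_add {N N' f g} := by
    ext
    change (S.obj X.A).map (f + g) = (S.obj X.A).map f + (S.obj X.A).map g
    rw [Functor.map_add]

variable [Abelian M]

/-- `T(X, -)` is exact if `S(u X, -)` is. -/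
theorem preservesHomology_obj [∀ X, (S.obj X).Additive] (X : G.Coalgebra)
    [(S.obj X.A).PreservesHomology] : (σ.bifunctor.obj X).PreservesHomology := by
  apply Functor.preservesHomology_of_map_exact
  intro K hK
  rw [← ShortComplex.exact_map_iff_of_faithful _ G.forget]
  exact hK.map (S.obj X.A)

/-- `T(-, N)` is exact if `S(-, N)` is. -/
theorem preservesHomology_flip_obj [S.Additive] (N : M)
    [(S.flip.obj N).PreservesHomology] : (σ.bifunctor.flip.obj N).PreservesHomology := by
  apply Functor.preservesHomology_of_map_exact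
  intro K hK
  rw [← ShortComplex.exact_map_iff_of_faithful _ G.forget]
  exact (hK.map G.forget).map (S.flip.obj N)

variable [S.Additive] [∀ X, (S.obj X).Additive]

/-- The functor `- ⊗ N` on complexes commutes with forgetting the coaction. -/
def mapForgetIso (N : M) (K : CochainComplex G.Coalgebra ℤ) :
    (G.forget.mapHomologicalComplex (ComplexShape.up ℤ)).obj
      (((σ.bifunctor.flip.obj N).mapHomologicalComplex (ComplexShape.up ℤ)).obj K) ≅
    ((S.flip.obj N).mapHomologicalComplex (ComplexShape.up ℤ)).obj
      ((G.forget.mapHomologicalComplex (ComplexShape.up ℤ)).obj K) :=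
  HomologicalComplex.Hom.isoOfComponents (fun n => Iso.refl ((S.obj (K.X n).A).obj N)) (fun i j _ => by
    change 𝟙 _ ≫ (S.map (K.d i j).f).app N = (S.map (K.d i j).f).app N ≫ 𝟙 _
    rw [Category.id_comp, Category.comp_id])

end Abelian

end Strength

end Groth.Agent.ResProp.EF.K945
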